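import Mathlib

/-!
The underlying cone of a limit of group objects is a limit, once the underlying diagram has a limit.
-/

set_option autoImplicit false
set_option backward.isDefEq.respectTransparency false
set_option backward.isDefEq.respectTransparency.types false

universe v₁ u₁ v₂ u₂

open CategoryTheory CategoryTheory.Limits MonoidalCategory CartesianMonoidalCategory MonObj GrpObj

namespace Groth.Agent.TorsorLim

variable {C : Type u₁} [Category.{v₁} C] [CartesianMonoidalCategory C] {J : Type u₂} [Category.{v₂} J]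
  (D : J ⥤ Grp C) [HasLimit (D ⋙ Grp.forget C)]

/-- the limit of the underlying diagram -/
noncomputable abbrev L : C := limit (D ⋙ Grp.forget C)

/-- its projections -/
noncomputable abbrev pr (j : J) : L D ⟶ (D.obj j).X := limit.π (D ⋙ Grp.forget C) j

lemma pr_w {i j : J} (t : i ⟶ j) : pr D i ≫ (D.map t).hom.hom = pr D j :=
  limit.w (D ⋙ Grp.forget C) t

lemma L_ext {T : C} {f g : T ⟶ L D} (h : ∀ j, f ≫ pr D j = g ≫ pr D j) : f = g := limit.hom_ext h

/-- lift a family to the limit -/
noncomputable def mkHom {T : C} (f : ∀ j, T ⟶ (D.obj j).X)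
    (hf : ∀ {i j : J} (t : i ⟶ j), f i ≫ (D.map t).hom.hom = f j) : T ⟶ L D :=
  limit.lift (D ⋙ Grp.forget C) ⟨T, ⟨f, fun i j t => by
    change 𝟙 T ≫ f j = f i ≫ (D.map t).hom.hom
    rw [Category.id_comp, hf]⟩⟩

@[reassoc]
lemma mkHom_pr {T : C} (f : ∀ j, T ⟶ (D.obj j).X)
    (hf : ∀ {i j : J} (t : i ⟶ j), f i ≫ (D.map t).hom.hom = f j) (j : J) :
    mkHom D f hf ≫ pr D j = f j :=
  limit.lift_π _ _

/-- the group structure on the limit -/
noncomputable instance grpL : GrpObj (L D) where
  one := mkHom D (fun j => η[(D.obj j).X]) (fun t => IsMonHom.one_hom _)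
  mul := mkHom D (fun j => (fst (L D) (L D) ≫ pr D j) * (snd (L D) (L D) ≫ pr D j))
    (fun t => by rw [MonObj.mul_comp, Category.assoc, Category.assoc, pr_w])
  inv := mkHom D (fun j => (pr D j)⁻¹) (fun t => by rw [GrpObj.inv_comp, pr_w])
  one_mul := L_ext D fun j => by
    simp only [Category.assoc, mkHom_pr, comp_mul, whiskerRight_fst_assoc, whiskerRight_snd_assoc, leftUnitor_hom]
    rw [toUnit_unique (fst (𝟙_ C) (L D)) (toUnit _), ← Hom.one_def, _root_.one_mul]
  mul_one := L_ext D fun j => by
    simp only [Category.assoc, mkHom_pr, comp_mul, whiskerLeft_fst_assoc, whiskerLeft_snd_assoc, rightUnitor_hom]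
    rw [toUnit_unique (snd (L D) (𝟙_ C)) (toUnit _), ← Hom.one_def, _root_.mul_one]
  mul_assoc := L_ext D fun j => by
    simp only [Category.assoc, mkHom_pr, mkHom_pr_assoc, comp_mul, whiskerRight_fst_assoc, whiskerRight_snd_assoc,
      whiskerLeft_fst_assoc, whiskerLeft_snd_assoc, associator_hom_fst_assoc, associator_hom_snd_fst_assoc,
      associator_hom_snd_snd_assoc, _root_.mul_assoc]
  left_inv := L_ext D fun j => by
    simp only [Category.assoc, mkHom_pr, comp_mul, lift_fst_assoc, lift_snd_assoc, Category.id_comp]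
    rw [inv_mul_cancel, Hom.one_def]
  right_inv := L_ext D fun j => by
    simp only [Category.assoc, mkHom_pr, comp_mul, lift_fst_assoc, lift_snd_assoc, Category.id_comp]
    rw [mul_inv_cancel, Hom.one_def]

lemma mul_pr (j : J) : μ[L D] ≫ pr D j = (fst (L D) (L D) ≫ pr D j) * (snd (L D) (L D) ≫ pr D j) :=
  mkHom_pr D _ (fun t => by rw [MonObj.mul_comp, Category.assoc, Category.assoc, pr_w]) j

instance pr_isMonHom (j : J) : IsMonHom (pr D j) where
  one_hom := mkHom_pr D (fun j => η[(D.obj j).X]) (fun t => IsMonHom.one_hom _) j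
  mul_hom := by
    refine (mul_pr D j).trans ?_
    rw [Hom.mul_def, ← lift_map, lift_fst_snd]
    simp

/-- The forgetful functor preserves a limit of group objects whose underlying diagram has a limit. -/
noncomputable def isLimitForget (c : Cone D) (hc : IsLimit c) : IsLimit ((Grp.forget C).mapCone c) := by
  let s : Cone D :=
    { pt := ⟨L D⟩
      π := { app := fun j => Grp.homMk (A := ⟨L D⟩) (pr D j)
             naturality := fun i j t => by
               refine (Category.id_comp _).trans ?_
               ext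
               exact (pr_w D t).symm } }
  let g : c.pt.X ⟶ L D := (limit.isLimit (D ⋙ Grp.forget C)).lift ((Grp.forget C).mapCone c)
  have hg : ∀ j, g ≫ pr D j = (c.π.app j).hom.hom := fun j => limit.lift_π _ _
  haveI : IsMonHom g :=
    ⟨L_ext D fun j => by
      rw [Category.assoc, hg, IsMonHom.one_hom]
      exact (IsMonHom.one_hom (pr D j)).symm,
    L_ext D fun j => by
      rw [Category.assoc, hg, IsMonHom.mul_hom, Category.assoc, IsMonHom.mul_hom (pr D j),
        MonoidalCategory.tensorHom_comp_tensorHom_assoc, ← hg]⟩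
  have : IsIso g := by
    refine ⟨(hc.lift s).hom.hom, ?_, ?_⟩
    · have h : Grp.homMk (A := c.pt) (B := s.pt) g ≫ hc.lift s = 𝟙 c.pt := hc.hom_ext fun j => by
        rw [Category.assoc, hc.fac, Category.id_comp]
        ext
        exact hg j
      exact congrArg (fun f => f.hom.hom) h
    · refine L_ext D fun j => ?_
      rw [Category.assoc, hg, Category.id_comp]
      exact congrArg (fun f => f.hom.hom) (hc.fac s j)
  exact IsLimit.ofPointIso (limit.isLimit _) (i := this)

end Groth.Agent.TorsorLim
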