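import Groth.Agent.TorsorLim.Flat
import Groth.Agent.TorsorLim.GrpLim
import Groth.Agent.Torsor.Descent
import Groth.Agent.LimExist.Basic
import Groth.Prelude.Def_Red

/-!
Limits of torsors under affine group schemes over a field.
-/

set_option autoImplicit false
set_option backward.isDefEq.respectTransparency false
set_option backward.isDefEq.respectTransparency.types false
set_option linter.style.haveILetI false

universe u

open CategoryTheory CategoryTheory.Limits MonoidalCategory CartesianMonoidalCategory MonObj GrpObj AlgebraicGeometry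
open Groth.Agent.Torsor

namespace Groth.Agent.TorsorLim

attribute [local instance] IsCofiltered.isConnected

theorem hasLimit_underlying {S : Scheme.{u}} [IsAffine S] {I : Type u} [SmallCategory I] [IsCofiltered I]
    (DG : I ⥤ Grp (Over S)) [∀ i, IsAffineHom (DG.obj i).X.hom] : HasLimit (DG ⋙ Grp.forget (Over S)) := by
  let E := (DG ⋙ Grp.forget (Over S)) ⋙ Over.forget S
  haveI : HasLimit E :=
    LimExist.hasLimit_of_isAffine E (fun j => isAffine_of_isAffineHom (DG.obj j).X.hom)
  exact hasLimit_of_created _ (Over.forget S)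

theorem isTorsorFor_limit {S : Scheme.{u}} [IsAffine S] {X : Scheme.{u}} (q : X ⟶ S)
    {I : Type u} [SmallCategory I] [IsCofiltered I] (DG : I ⥤ Grp (Over S))
    [∀ i, IsAffineHom (DG.obj i).X.hom] [∀ i, Flat (DG.obj i).X.hom]
    (cG : Cone DG) (hcG : IsLimit cG) (DT : I ⥤ Over X)
    (aT : ∀ i, AlgGrp.Action (Red.bc q (DG.obj i).X) (DT.obj i))
    (hT : ∀ i, NonAbH1.IsTorsorFor Scheme.fpqcPrecoverage (aT i))
    (hDT : ∀ (i j : I) (φ : i ⟶ j), AlgGrp.Action.IsEquivariant (aT i)
      ((aT j).restrict ((Over.pullback q).map (DG.map φ).hom.hom)) (DT.map φ))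
    (cT : Cone DT) (hcT : IsLimit cT) (a : AlgGrp.Action (Red.bc q cG.pt.X) cT.pt)
    (ha : ∀ i, AlgGrp.Action.IsEquivariant a
      ((aT i).restrict ((Over.pullback q).map (cG.π.app i).hom.hom)) (cT.π.app i)) :
    NonAbH1.IsTorsorFor Scheme.fpqcPrecoverage a := by
  haveI := hasLimit_underlying DG
  let hG := isLimitForget DG cG hcG
  haveI : ∀ i, IsAffineHom (DT.obj i).hom := fun i =>
    of_isTorsorFor (hT i) (@IsAffineHom : MorphismProperty Scheme.{u})
      (MorphismProperty.pullback_snd _ _ inferInstance)
  haveI : ∀ i, Flat (DT.obj i).hom := fun i =>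
    of_isTorsorFor (hT i) (@Flat : MorphismProperty Scheme.{u}) (MorphismProperty.pullback_snd _ _ inferInstance)
  haveI : ∀ i, Surjective (DT.obj i).hom := fun i => surjective_of_isTorsorFor (hT i)
  refine ⟨(isPseudoTorsor_iff a).2 fun T x y => ?_, ?_⟩
  · choose g hg hu using fun i =>
      (isPseudoTorsor_iff (aT i)).1 (hT i).1 T (x ≫ cT.π.app i) (y ≫ cT.π.app i)
    let adj := Over.mapPullbackAdj q
    let m : ∀ i, (Over.map q).obj T ⟶ (DG.obj i).X := fun i => (adj.homEquiv T _).symm (g i)
    have hnat : ∀ {i j : I} (φ : i ⟶ j), g i ≫ (Over.pullback q).map (DG.map φ).hom.hom = g j := fun {i j} φ => by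
      refine hu j _ ?_
      have h := smul_equivariant (aT i) (hDT i j φ) (g i) (x ≫ cT.π.app i)
      rw [hg i, Category.assoc, Category.assoc, cT.w] at h
      exact (h.trans (AlgGrp.Action.lift_restrict_act _ (aT j) (g i) _)).symm
    let s : Cone (DG ⋙ Grp.forget _) :=
      { pt := (Over.map q).obj T
        π := { app := m
               naturality := fun i j φ => by
                 refine (Category.id_comp _).trans ?_
                 change m j = m i ≫ (DG.map φ).hom.hom
                 simp only [m]
                 rw [← hnat φ, adj.homEquiv_naturality_right_symm] } }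
    let gl : T ⟶ Red.bc q cG.pt.X := adj.homEquiv T _ (hG.lift s)
    have hgl : ∀ i, gl ≫ (Over.pullback q).map (cG.π.app i).hom.hom = g i := fun i => by
      rw [← adj.homEquiv_naturality_right]
      refine (congrArg (adj.homEquiv T _) (hG.fac s i)).trans ?_
      exact Equiv.apply_symm_apply _ _
    have key : ∀ (h : T ⟶ Red.bc q cG.pt.X) (i : I), smul a h x ≫ cT.π.app i =
        smul (aT i) (h ≫ (Over.pullback q).map (cG.π.app i).hom.hom) (x ≫ cT.π.app i) := fun h i => by
      rw [smul_equivariant a (ha i)]
      exact AlgGrp.Action.lift_restrict_act _ (aT i) h _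
    refine ⟨gl, hcT.hom_ext fun i => ?_, fun h hh => ?_⟩
    · rw [key, hgl, hg]
    · refine (adj.homEquiv T _).symm.injective (hG.hom_ext fun i => ?_)
      change (adj.homEquiv T _).symm h ≫ (cG.π.app i).hom.hom = (adj.homEquiv T _).symm gl ≫ (cG.π.app i).hom.hom
      rw [← adj.homEquiv_naturality_right_symm, ← adj.homEquiv_naturality_right_symm, hgl]
      refine congrArg _ (hu i _ ?_)
      change smul (aT i) _ _ = _
      rw [← key, hh]
  · haveI : IsAffineHom cT.pt.hom := isAffineHom DT cT hcT
    haveI : Flat cT.pt.hom := flat DT cT hcT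
    haveI : Surjective cT.pt.hom := surjective DT cT hcT
    refine ⟨_, cT.pt.hom.singleton_mem_fpqcPrecoverage, ?_⟩
    rintro S' f ⟨⟩
    exact ⟨𝟙 _, Category.id_comp _⟩

end Groth.Agent.TorsorLim
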