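import Mathlib

/-!
Cofiltered limits of affine (flat, surjective) schemes over a fixed scheme.
-/

set_option autoImplicit false
set_option backward.isDefEq.respectTransparency false
set_option backward.isDefEq.respectTransparency.types false

universe u

open CategoryTheory CategoryTheory.Limits AlgebraicGeometry

namespace Groth.Agent.TorsorLim

attribute [local instance] IsCofiltered.isConnected

variable {X : Scheme.{u}} {J : Type u} [SmallCategory J] [IsCofiltered J] (D : J ⥤ Over X)
  (c : Cone D) (hc : IsLimit c) [∀ j, IsAffineHom (D.obj j).hom]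

lemma isAffineHom_map {i j : J} (t : i ⟶ j) : IsAffineHom (D.map t).left := by
  have : IsAffineHom ((D.map t).left ≫ (D.obj j).hom) := by rw [Over.w]; infer_instance
  exact IsAffineHom.of_comp _ (D.obj j).hom

lemma snd_affine (j : J) {Y : Scheme.{u}} (p : Y ⟶ X) : IsAffineHom (pullback.snd (D.obj j).hom p) :=
  MorphismProperty.pullback_snd _ _ inferInstance

include hc

theorem isAffineHom : IsAffineHom c.pt.hom := by
  obtain ⟨i⟩ := IsCofiltered.nonempty (C := J)
  have (a b : J) (t : a ⟶ b) : IsAffineHom ((D ⋙ Over.forget X).map t) := isAffineHom_map D t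
  have h : IsAffineHom (c.π.app i).left :=
    isAffineHom_π_app _ _ (isLimitOfPreserves (Over.forget X) hc) i
  have e : c.pt.hom = (c.π.app i).left ≫ (D.obj i).hom := (Over.w (c.π.app i)).symm
  rw [e]
  infer_instance

/-- base change of the cone -/
noncomputable def bcLimit {Y : Scheme.{u}} (p : Y ⟶ X) :
    IsLimit ((Over.pullback p).mapCone c) :=
  isLimitOfPreserves (Over.pullback p) hc

theorem surjective [∀ j, Surjective (D.obj j).hom] : Surjective c.pt.hom := by
  refine ⟨fun x => ?_⟩
  let p := X.fromSpecResidueField x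
  let E := D ⋙ Over.pullback p ⋙ Over.forget _
  have hE := isLimitOfPreserves (Over.forget _) (bcLimit D c hc p)
  have : ∀ (a b : J) (t : a ⟶ b), IsAffineHom (E.map t) := fun a b t => by
    have : IsAffineHom ((D.obj b).hom) := inferInstance
    haveI := snd_affine D b p
    haveI := snd_affine D a p
    have h1 : IsAffineHom (((Over.pullback p).map (D.map t)).left ≫ pullback.snd (D.obj b).hom p) := by
      rw [show ((Over.pullback p).map (D.map t)).left ≫ pullback.snd (D.obj b).hom p =
        pullback.snd (D.obj a).hom p from Over.w ((Over.pullback p).map (D.map t))]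
      infer_instance
    haveI : IsAffineHom (E.map t ≫ pullback.snd (D.obj b).hom p) := h1
    exact IsAffineHom.of_comp _ (pullback.snd (D.obj b).hom p)
  have : ∀ j, IsAffine (E.obj j) := fun j =>
    haveI := snd_affine D j p; isAffine_of_isAffineHom (pullback.snd (D.obj j).hom p)
  have : ∀ j, Nonempty (E.obj j) := fun j => by
    obtain ⟨y, hy⟩ := (D.obj j).hom.surjective x
    obtain ⟨z, -, -⟩ := Scheme.Pullback.exists_preimage_pullback (f := (D.obj j).hom) (g := p) y
      (IsLocalRing.closedPoint _) (hy.trans (X.fromSpecResidueField_apply x _).symm)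
    exact ⟨z⟩
  have : ∀ j, CompactSpace (E.obj j) := fun j => inferInstance
  obtain ⟨z⟩ := Scheme.nonempty_of_isLimit E _ hE
  refine ⟨(pullback.fst c.pt.hom p).base z, ?_⟩
  change (pullback.fst c.pt.hom p ≫ c.pt.hom).base z = x
  rw [pullback.condition]
  exact X.fromSpecResidueField_apply x _

omit hc in
lemma appTop_scalar {i j : J} (t : i ⟶ j) (r : Γ(X, ⊤)) :
    (D.map t).left.appTop ((D.obj j).hom.appTop r) = (D.obj i).hom.appTop r := by
  rw [← Over.w (D.map t), Scheme.Hom.comp_appTop]
  rfl

theorem flat_of_isAffine [IsAffine X] [∀ j, Flat (D.obj j).hom] : Flat c.pt.hom := by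
  classical
  let E := D ⋙ Over.forget X
  have hE := isLimitOfPreserves (Over.forget X) hc
  have : ∀ (a b : J) (t : a ⟶ b), IsAffineHom (E.map t) := fun a b t => isAffineHom_map D t
  have : ∀ j, IsAffine (E.obj j) := fun j => isAffine_of_isAffineHom (D.obj j).hom
  have := isAffineHom D c hc
  have : IsAffine c.pt.left := isAffine_of_isAffineHom c.pt.hom
  rw [HasRingHomProperty.iff_of_isAffine (P := @Flat)]
  let A := Γ(c.pt.left, ⊤)
  algebraize [c.pt.hom.appTop.hom]
  change Module.Flat Γ(X, ⊤) A
  refine Module.Flat.iff_forall_isTrivialRelation.mpr fun {l f x} hfx => ?_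
  choose i t ht using fun a => exists_appTop_π_eq_of_isLimit E _ hE (x a)
  obtain ⟨s, hs⟩ := IsCofiltered.inf_objs_exists (Finset.univ.image i)
  let g : ∀ a, s ⟶ i a := fun a => (hs (Finset.mem_image_of_mem i (Finset.mem_univ a))).some
  let y : Fin l → Γ((D.obj s).left, ⊤) := fun a => (D.map (g a)).left.appTop (t a)
  have hy : ∀ a, (c.π.app s).left.appTop (y a) = x a := fun a => by
    rw [ht a]
    change ((D.map (g a)).left.appTop ≫ (c.π.app s).left.appTop) (t a) = _
    rw [← Scheme.Hom.comp_appTop, ← Over.comp_left, c.w]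
    rfl
  have hsc : ∀ (j : J) (r : Γ(X, ⊤)),
      (c.π.app j).left.appTop ((D.obj j).hom.appTop r) = c.pt.hom.appTop r := fun j r => by
    have e : c.pt.hom = (c.π.app j).left ≫ (D.obj j).hom := (Over.w (c.π.app j)).symm
    rw [e, Scheme.Hom.comp_appTop]
    rfl
  have h0 : (c.π.app s).left.appTop (∑ a, (D.obj s).hom.appTop (f a) * y a) = 0 := by
    rw [map_sum, ← hfx]
    refine Finset.sum_congr rfl fun a _ => ?_
    rw [map_mul, hsc, hy]
    rfl
  obtain ⟨k, v, hv⟩ := exists_appTop_map_eq_zero_of_isLimit E _ hE _ h0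
  let z : Fin l → Γ((D.obj k).left, ⊤) := fun a => (D.map v).left.appTop (y a)
  have hv' : ∑ a, (D.obj k).hom.appTop (f a) * z a = 0 := by
    rw [← hv]
    change _ = (D.map v).left.appTop _
    rw [map_sum]
    refine Finset.sum_congr rfl fun a _ => ?_
    rw [map_mul, appTop_scalar D v]
  have hfl : (D.obj k).hom.appTop.hom.Flat := by
    have : IsAffine (D.obj k).left := isAffine_of_isAffineHom (D.obj k).hom
    exact Scheme.Hom.flat_appTop _
  letI : Algebra Γ(X, ⊤) Γ((D.obj k).left, ⊤) := (D.obj k).hom.appTop.hom.toAlgebra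
  haveI : Module.Flat Γ(X, ⊤) Γ((D.obj k).left, ⊤) := hfl
  obtain ⟨m, a, w, hw, ha⟩ := Module.Flat.isTrivialRelation_of_sum_smul_eq_zero
    (f := f) (x := z) hv'
  refine ⟨m, a, fun j => (c.π.app k).left.appTop (w j), fun b => ?_, ha⟩
  have hz : x b = (c.π.app k).left.appTop (z b) := by
    rw [← hy b]
    change _ = ((D.map v).left.appTop ≫ (c.π.app k).left.appTop) (y b)
    rw [← Scheme.Hom.comp_appTop, ← Over.comp_left, c.w]
    rfl
  rw [hz, hw b, map_sum]
  refine Finset.sum_congr rfl fun j _ => ?_
  rw [Algebra.smul_def, map_mul]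
  exact congrArg (· * _) (hsc k (a b j))

theorem flat [∀ j, Flat (D.obj j).hom] : Flat c.pt.hom := by
  rw [IsZariskiLocalAtTarget.iff_of_openCover (P := @Flat) X.affineCover]
  intro i
  let p := X.affineCover.f i
  have : ∀ j, IsAffineHom ((D ⋙ Over.pullback p).obj j).hom := fun j =>
    snd_affine D j p
  have : ∀ j, Flat ((D ⋙ Over.pullback p).obj j).hom := fun j =>
    inferInstanceAs (Flat (pullback.snd (D.obj j).hom p))
  exact flat_of_isAffine (D ⋙ Over.pullback p) _ (bcLimit D c hc p)

end Groth.Agent.TorsorLim
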